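import Groth.Agent.BirForms.Sys
import Groth.Agent.H23.RatExtend
import Groth.Agent.RefX.NormalSheaf
import Groth.Agent.RefX.Lift
import Groth.Agent.CDiv6.Normal
import Groth.Agent.QCoh.LocFree
import Groth.Agent.H28.PushLocFree

/-!
# Birational invariance of global sections of systems of forms
-/

set_option autoImplicit false
set_option backward.isDefEq.respectTransparency false
set_option backward.isDefEq.respectTransparency.types false
set_option linter.style.haveILetI false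
set_option maxHeartbeats 1000000

universe u

open CategoryTheory CategoryTheory.Limits AlgebraicGeometry TopologicalSpace Opposite

namespace Groth.Agent.BirForms

open Groth.Agent

variable {X X' S : Scheme.{u}} {ι : Type}

/-- A rational map to a proper scheme is defined near a point whose local ring is a valuation ring. -/
theorem exists_local_ext [IsIntegral X] (f : X ⟶ S) (f' : X' ⟶ S) [IsProper f'] [X'.IsSeparated]
    [S.IsSeparated] {U₀ : X.Opens} (h₀ : (U₀ : Scheme.{u}) ⟶ X') (hh : h₀ ≫ f' = U₀.ι ≫ f)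
    (hη : genericPoint X ∈ U₀) {x : X} (hv : ValuationRing (X.presheaf.stalk x)) :
    ∃ (W : X.Opens) (H : (W : Scheme.{u}) ⟶ X'), x ∈ W ∧ H ≫ f' = W.ι ≫ f ∧
      X.homOfLE (inf_le_left : W ⊓ U₀ ≤ W) ≫ H = X.homOfLE (inf_le_right : W ⊓ U₀ ≤ U₀) ≫ h₀ := by
  let φ₀ := U₀.fromSpecStalkOfMem (genericPoint X) hη ≫ h₀
  have hφ₀ : φ₀ ≫ f' = X.fromSpecStalk _ ≫ f := by
    show (_ ≫ h₀) ≫ f' = _
    rw [Category.assoc, hh, Scheme.Opens.fromSpecStalkOfMem_ι_assoc]
  obtain ⟨W, hg, H, hW, hH, hH₀⟩ := H23.RatExtend.extend f f' φ₀ hφ₀ {x} (by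
    rintro _ rfl
    exact H23.RatExtend.exists_lift f f' φ₀ hφ₀ _ hv)
  refine ⟨W, H, hW rfl, hH, ?_⟩
  have hm : genericPoint X ∈ W ⊓ U₀ := ⟨hg, hη⟩
  haveI : Nonempty (W ⊓ U₀ : X.Opens) := ⟨⟨_, hm⟩⟩
  haveI := H23.RatExtend.isDominant_fromSpecStalkOfMem _ hm
  have hc : ∀ {A B : X.Opens} (e : A ≤ B) (hy : genericPoint X ∈ A),
      A.fromSpecStalkOfMem _ hy ≫ X.homOfLE e = B.fromSpecStalkOfMem _ (e hy) := by
    intro A B e hy
    rw [← cancel_mono B.ι, Category.assoc, Scheme.homOfLE_ι, Scheme.Opens.fromSpecStalkOfMem_ι,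
      Scheme.Opens.fromSpecStalkOfMem_ι]
  refine ext_of_isDominant ((W ⊓ U₀).fromSpecStalkOfMem _ hm) ?_
  rw [← Category.assoc, ← Category.assoc, hc, hc]
  exact hH₀

/-- Pullback of sections commutes with restriction. -/
theorem IsPb.natural {f : X ⟶ S} {f' : X' ⟶ S} {F : Sys X ι} {F' : Sys X' ι} {U A : X.Opens} {V B : X'.Opens}
    (hV : IsAffineOpen V) (hA : A ≤ U) (hB : B ≤ V) {σ : Γ(X', V) →+* Γ(X, U)} {τ : Γ(X', B) →+* Γ(X, A)}
    {ψ : Γ(F'.L, V) →+ Γ(F.L, U)} {χ : Γ(F'.L, B) →+ Γ(F.L, A)} (h : IsPb F' F σ ψ) (h' : IsPb F' F τ χ)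
    (hc : (X.presheaf.map (homOfLE hA).op).hom.comp σ = τ.comp (X'.presheaf.map (homOfLE hB).op).hom)
    (m : Γ(F'.L, V)) :
    F.L.presheaf.map (homOfLE hA).op (ψ m) = χ (F'.L.presheaf.map (homOfLE hB).op m) := by
  have h1 := (isPb_res F hA).comp h
  rw [hc] at h1
  exact h1.unique hV (h'.comp (isPb_res F' hB)) m

theorem isReflexive_loc [IsLocallyNoetherian X] (F : Sys X ι) : Coh.IsCoh F.L ∧
    RefHull.IsReflexive F.L := by
  have hc : Coh.IsCoh F.L := ⟨QCoh.isQCoh_of_isFinLocFree F.loc, (H28.PushLocFree.isCoh_of_isFinLocFree F.loc).2⟩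
  refine ⟨hc, (RefX.isReflexive_iff hc).2 fun x => ?_⟩
  haveI := QCoh.finite_stalk_of_isFT hc.1 hc.2 x
  haveI := QCoh.free_stalk_of_isFinLocFree F.loc x
  exact (inferInstanceAs (Module.IsReflexive (X.presheaf.stalk x) (F.L.presheaf.stalk x)))

/-- The restriction of global sections to a nonempty open is injective. -/
theorem res_injective [IsIntegral X] [IsLocallyNoetherian X] (F : Sys X ι) {U : X.Opens}
    (hη : genericPoint X ∈ U) :
    Function.Injective (F.L.presheaf.map (homOfLE (le_top : U ≤ ⊤)).op) := by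
  obtain ⟨hc, hr⟩ := isReflexive_loc F
  refine (injective_iff_map_eq_zero _).2 fun s hs => ?_
  refine RefX.germ_eq_zero_of_generic hc (fun x => ?_) s trivial ?_
  · haveI : Module.IsReflexive (X.presheaf.stalk x) (F.L.presheaf.stalk x) := (RefX.isReflexive_iff hc).1 hr x
    infer_instance
  · refine (F.L.presheaf.germ_res_apply (homOfLE (le_top : U ≤ ⊤)) _ hη s).symm.trans ?_
    rw [hs, map_zero]

/-- Pullback of a global section along a rational map to a proper scheme is global. -/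
theorem exists_global [IsIntegral X] [IsLocallyNoetherian X] (f : X ⟶ S) (f' : X' ⟶ S) [IsProper f']
    [X.IsSeparated] [X'.IsSeparated] [S.IsSeparated] [IsAffine S] (hN : Pi1.IsNormalScheme X)
    {F : Sys X ι} {F' : Sys X' ι} (hnat : Nat f f' F' F) {U₀ : X.Opens} {V₀ : X'.Opens}
    (hU₀ : IsAffineOpen U₀) (hV₀ : IsAffineOpen V₀) (hη : genericPoint X ∈ U₀)
    (l : (U₀ : Scheme.{u}) ⟶ (V₀ : Scheme.{u})) (hl : l ≫ V₀.ι ≫ f' = U₀.ι ≫ f)
    {ψ : Γ(F'.L, V₀) →+ Γ(F.L, U₀)} (hψ : IsPb F' F (sec l) ψ) (s : Γ(F'.L, ⊤)) :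
    ∃ t : Γ(F.L, ⊤), F.L.presheaf.map (homOfLE (le_top : U₀ ≤ ⊤)).op t =
      ψ (F'.L.presheaf.map (homOfLE (le_top : V₀ ≤ ⊤)).op s) := by
  obtain ⟨hc, hr⟩ := isReflexive_loc F
  let u := ψ (F'.L.presheaf.map (homOfLE (le_top : V₀ ≤ ⊤)).op s)
  have key : ∀ x : X, x ∈ (⊤ : X.Opens) → Order.coheight x = 1 →
      F.L.presheaf.germ U₀ _ hη u ∈ Set.range (RefX.spM F.L (RefX.specializes_genericPoint x)) := by
    intro x _ hx
    haveI := CDiv6.isDVR_of_coheight_one hN hx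
    obtain ⟨W, H, hxW, hH, hagr⟩ := exists_local_ext f f' (l ≫ V₀.ι) (by rw [Category.assoc, hl]) hη
      (x := x) inferInstance
    obtain ⟨_, ⟨(V : X'.Opens), hV, rfl⟩, hxV, -⟩ :=
      X'.isBasis_affineOpens.exists_subset_of_mem_open (Set.mem_univ (H ⟨x, hxW⟩)) isOpen_univ
    obtain ⟨_, ⟨U, hU, rfl⟩, hxU, hUW⟩ := X.isBasis_affineOpens.exists_subset_of_mem_open
      (show x ∈ (W.ι ''ᵁ (H ⁻¹ᵁ V) : X.Opens) from ⟨⟨x, hxW⟩, hxV, rfl⟩) (W.ι ''ᵁ (H ⁻¹ᵁ V)).isOpen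
    replace hV : IsAffineOpen V := hV
    replace hU : IsAffineOpen U := hU
    replace hUW : U ≤ W.ι ''ᵁ (H ⁻¹ᵁ V) := hUW
    have hUW' : U ≤ W := hUW.trans (W.ι_image_le _)
    have hrange : Set.range (X.homOfLE hUW' ≫ H) ⊆ Set.range V.ι := by
      rintro _ ⟨y, rfl⟩
      rw [Scheme.Opens.range_ι, Scheme.Hom.comp_apply]
      obtain ⟨z, hz, hzy⟩ := hUW y.2
      have : X.homOfLE hUW' y = z := W.ι.isOpenEmbedding.injective (by
        rw [← Scheme.Hom.comp_apply, Scheme.homOfLE_ι]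
        exact hzy.symm)
      rw [this]
      exact hz
    let lx := IsOpenImmersion.lift V.ι (X.homOfLE hUW' ≫ H) hrange
    have hlx : lx ≫ V.ι = X.homOfLE hUW' ≫ H := IsOpenImmersion.lift_fac _ _ _
    obtain ⟨χ, hχ⟩ := hnat U V hU hV (sec lx) (sec_const f f' lx (by
      rw [reassoc_of% hlx, hH, Scheme.homOfLE_ι_assoc]))
    have hηU : genericPoint X ∈ U := (genericPoint_specializes x).mem_open U.2 hxU
    let A := U ⊓ U₀
    have hA : IsAffineOpen A := hU.inf hU₀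
    let B := V ⊓ V₀
    have hB : IsAffineOpen B := hV.inf hV₀
    have hkey : X.homOfLE (inf_le_left : A ≤ U) ≫ lx ≫ V.ι = X.homOfLE (inf_le_right : A ≤ U₀) ≫ l ≫ V₀.ι := by
      have h := congrArg (fun q => X.homOfLE (le_inf (inf_le_left.trans hUW') inf_le_right : A ≤ W ⊓ U₀) ≫ q) hagr
      simp only [Scheme.homOfLE_homOfLE_assoc] at h
      rw [hlx, Scheme.homOfLE_homOfLE_assoc]
      exact h
    have hrA : Set.range (X.homOfLE (inf_le_left : A ≤ U) ≫ lx ≫ V.ι) ⊆ Set.range B.ι := by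
      rintro _ ⟨y, rfl⟩
      rw [Scheme.Opens.range_ι]
      refine ⟨?_, ?_⟩
      · rw [Scheme.Hom.comp_apply, Scheme.Hom.comp_apply]
        exact (lx _).2
      · rw [hkey, Scheme.Hom.comp_apply, Scheme.Hom.comp_apply]
        exact (l _).2
    let lA := IsOpenImmersion.lift B.ι (X.homOfLE (inf_le_left : A ≤ U) ≫ lx ≫ V.ι) hrA
    have hlA : lA ≫ B.ι = X.homOfLE (inf_le_left : A ≤ U) ≫ lx ≫ V.ι := IsOpenImmersion.lift_fac _ _ _
    have hsq₁ : X.homOfLE (inf_le_left : A ≤ U) ≫ lx = lA ≫ X'.homOfLE (inf_le_left : B ≤ V) := by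
      rw [← cancel_mono V.ι]
      simp only [Category.assoc, Scheme.homOfLE_ι, hlA]
    have hsq₂ : X.homOfLE (inf_le_right : A ≤ U₀) ≫ l = lA ≫ X'.homOfLE (inf_le_right : B ≤ V₀) := by
      rw [← cancel_mono V₀.ι]
      simp only [Category.assoc, Scheme.homOfLE_ι, hlA, hkey]
    obtain ⟨ψA, hψA⟩ := hnat A B hA hB (sec lA) (sec_const f f' lA (by
      rw [reassoc_of% hlA, reassoc_of% hlx, hH, Scheme.homOfLE_ι_assoc,
        Scheme.homOfLE_ι_assoc]))
    have e₁ := hχ.natural (f := f) (f' := f') hV (inf_le_left : A ≤ U) (inf_le_left : B ≤ V) hψA (by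
      rw [← sec_homOfLE, ← sec_homOfLE, ← sec_comp, ← sec_comp, hsq₁])
      (F'.L.presheaf.map (homOfLE (le_top : V ≤ ⊤)).op s)
    have e₂ := hψ.natural (f := f) (f' := f') hV₀ (inf_le_right : A ≤ U₀) (inf_le_right : B ≤ V₀) hψA (by
      rw [← sec_homOfLE, ← sec_homOfLE, ← sec_comp, ← sec_comp, hsq₂])
      (F'.L.presheaf.map (homOfLE (le_top : V₀ ≤ ⊤)).op s)
    have hres : ∀ {P Q : X'.Opens} (h : Q ≤ P),
        F'.L.presheaf.map (homOfLE h).op (F'.L.presheaf.map (homOfLE (le_top : P ≤ ⊤)).op s) =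
          F'.L.presheaf.map (homOfLE (le_top : Q ≤ ⊤)).op s := fun h => by
      rw [← ConcreteCategory.comp_apply, ← Functor.map_comp]
      rfl
    rw [hres] at e₁ e₂
    let tx := χ (F'.L.presheaf.map (homOfLE (le_top : V ≤ ⊤)).op s)
    refine ⟨F.L.presheaf.germ U x hxU tx, ?_⟩
    rw [RefX.spM_germ]
    have hηA : genericPoint X ∈ A := ⟨hηU, hη⟩
    rw [← F.L.presheaf.germ_res_apply (homOfLE (inf_le_left : A ≤ U)) _ hηA tx,
      ← F.L.presheaf.germ_res_apply (homOfLE (inf_le_right : A ≤ U₀)) _ hηA u]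
    exact congrArg (F.L.presheaf.germ A _ hηA) (e₁.trans e₂.symm)
  obtain ⟨t, ht⟩ := RefX.exists_section_of_mem_range hN hc hr (W := ⊤) (trivial : genericPoint X ∈ ⊤)
    (v := F.L.presheaf.germ U₀ _ hη u) key
  refine ⟨t, ?_⟩
  have htf : ∀ y : X, Module.IsTorsionFree (X.presheaf.stalk y) (F.L.presheaf.stalk y) := fun y => by
    haveI : Module.IsReflexive (X.presheaf.stalk y) (F.L.presheaf.stalk y) := (RefX.isReflexive_iff hc).1 hr y
    infer_instance
  refine sub_eq_zero.1 (RefX.germ_eq_zero_of_generic hc htf _ hη ?_)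
  rw [map_sub, sub_eq_zero]
  exact (F.L.presheaf.germ_res_apply (homOfLE (le_top : U₀ ≤ ⊤)) _ hη t).trans ht

end Groth.Agent.BirForms
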