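import Mathlib.AlgebraicGeometry.Restrict
import Mathlib.AlgebraicGeometry.AffineScheme

/-!
# Ring maps between sections attached to morphisms of open subschemes
-/

set_option autoImplicit false
set_option backward.isDefEq.respectTransparency false

universe u

open CategoryTheory AlgebraicGeometry TopologicalSpace Opposite

namespace Groth.Agent.BirForms

variable {X Y Z S : Scheme.{u}}

/-- The map on sections attached to a morphism of open subschemes. -/
noncomputable def sec {U : X.Opens} {V : Y.Opens} (l : (U : Scheme.{u}) ⟶ (V : Scheme.{u})) :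
    Γ(Y, V) →+* Γ(X, U) :=
  (V.topIso.inv ≫ l.appTop ≫ U.topIso.hom).hom

theorem sec_id (U : X.Opens) : sec (𝟙 (U : Scheme.{u})) = RingHom.id _ := by
  rw [sec, Scheme.Hom.id_appTop, Category.id_comp, Iso.inv_hom_id]
  rfl

theorem sec_comp {U : X.Opens} {V : Y.Opens} {W : Z.Opens} (l : (U : Scheme.{u}) ⟶ (V : Scheme.{u}))
    (m : (V : Scheme.{u}) ⟶ (W : Scheme.{u})) : sec (l ≫ m) = (sec l).comp (sec m) := by
  rw [sec, sec, sec, ← CommRingCat.hom_comp]
  refine congrArg CommRingCat.Hom.hom ?_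
  simp only [Scheme.Hom.comp_appTop, Category.assoc, Iso.hom_inv_id_assoc]

theorem sec_homOfLE {U V : X.Opens} (h : U ≤ V) :
    sec (X.homOfLE h) = (X.presheaf.map (homOfLE h).op).hom := by
  rw [sec, Scheme.homOfLE_appTop, Scheme.Opens.topIso_hom, Scheme.Opens.topIso_inv,
    ← Functor.map_comp, ← Functor.map_comp]
  rfl

/-- Constants go to constants. -/
theorem sec_const {U : X.Opens} {V : Y.Opens} (f : X ⟶ S) (g : Y ⟶ S)
    (l : (U : Scheme.{u}) ⟶ (V : Scheme.{u})) (hl : l ≫ V.ι ≫ g = U.ι ≫ f) (c : Γ(S, ⊤)) :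
    sec l (g.appLE ⊤ V le_top c) = f.appLE ⊤ U le_top c := by
  have key : ∀ {A : Scheme.{u}} (a : A ⟶ S) (O : A.Opens),
      (O.ι ≫ a).appTop = a.appLE ⊤ O le_top ≫ O.topIso.inv := by
    intro A a O
    rw [Scheme.Hom.comp_appTop, Scheme.Opens.ι_appTop, Scheme.Opens.topIso_inv]
    unfold Scheme.Hom.appLE
    rw [Category.assoc, ← Functor.map_comp]
    rfl
  have h : (V.ι ≫ g).appTop ≫ l.appTop = (U.ι ≫ f).appTop := by rw [← Scheme.Hom.comp_appTop, hl]
  rw [key, key, Category.assoc] at h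
  have h2 : g.appLE ⊤ V le_top ≫ (V.topIso.inv ≫ l.appTop ≫ U.topIso.hom) = f.appLE ⊤ U le_top := by
    rw [← Category.assoc V.topIso.inv, ← Category.assoc, h, Category.assoc, Iso.inv_hom_id,
      Category.comp_id]
  exact ConcreteCategory.congr_hom h2 c

end Groth.Agent.BirForms
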