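import Groth.Agent.BirForms.Core
import Groth.Agent.S12422
import Groth.Prelude.Def_CohB1

/-!
# Birational smooth proper varieties have the same global forms
-/

set_option autoImplicit false
set_option backward.isDefEq.respectTransparency false
set_option backward.isDefEq.respectTransparency.types false
set_option linter.style.haveILetI false
set_option maxHeartbeats 1000000

universe u

open CategoryTheory CategoryTheory.Limits AlgebraicGeometry TopologicalSpace Opposite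

namespace Groth.Agent.BirForms

open Groth.Agent

variable {k : Type u} [Field k] {X X' : Scheme.{u}} [X.Over (Spec (CommRingCat.of k))]
  [X'.Over (Spec (CommRingCat.of k))] {ι : Type}

/-- A constant on an open. -/
noncomputable def cst (X : Scheme.{u}) [X.Over (Spec (CommRingCat.of k))] (U : X.Opens) (c : k) : Γ(X, U) :=
  (X ↘ Spec (CommRingCat.of k)).appLE ⊤ U le_top ((Scheme.ΓSpecIso (CommRingCat.of k)).inv c)

/-- Global sections compute `H⁰`, with constants acting by multiplication. -/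
theorem exists_equiv_HH (M : X.Modules) :
    ∃ e : Coh.HH X M 0 ≃+ Γ(M, ⊤), ∀ (c : k) x, e (c • x) = cst X ⊤ c • e x := by
  refine ⟨Sheaf.H.equiv₀ (Coh.toAb M) isTerminalTop, fun c x => ?_⟩
  have h := (Sheaf.H.equiv₀_naturality isTerminalTop
    (Coh.smulAb M (Coh.toGlobal (X ↘ Spec (CommRingCat.of k)) c)) x).symm
  refine h.trans ((Coh.smulAb_app _ _ _ _).trans ?_)
  refine @congrArg Γ(X, ⊤) Γ(M, ⊤) _ _
    (fun r => r • (show Γ(M, ⊤) from Sheaf.H.equiv₀ (Coh.toAb M) isTerminalTop x)) ?_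
  simp only [cst, Scheme.Hom.appLE, CommRingCat.hom_comp, RingHom.comp_apply]
  rfl

variable [IsIntegral X] [IsIntegral X'] [IsProper (X ↘ Spec (CommRingCat.of k))]
  [IsProper (X' ↘ Spec (CommRingCat.of k))]

theorem finrank_eq_of_nat (hreg : ∀ x : X, IsRegularLocalRing (X.presheaf.stalk x))
    (hreg' : ∀ x : X', IsRegularLocalRing (X'.presheaf.stalk x)) (U : X.Opens) (U' : X'.Opens)
    (hU : (U : Set X).Nonempty) (e : (U : Scheme.{u}) ≅ (U' : Scheme.{u}))
    (he : e.hom ≫ U'.ι ≫ (X' ↘ Spec (CommRingCat.of k)) = U.ι ≫ (X ↘ Spec (CommRingCat.of k)))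
    (F : Sys X ι) (F' : Sys X' ι)
    (hn : Nat (X ↘ Spec (CommRingCat.of k)) (X' ↘ Spec (CommRingCat.of k)) F' F)
    (hn' : Nat (X' ↘ Spec (CommRingCat.of k)) (X ↘ Spec (CommRingCat.of k)) F F') :
    Module.finrank k (Coh.HH X F.L 0) = Module.finrank k (Coh.HH X' F'.L 0) := by
  let f := X ↘ Spec (CommRingCat.of k)
  let f' := X' ↘ Spec (CommRingCat.of k)
  haveI : X.IsSeparated := ⟨by rw [← terminal.comp_from f]; exact inferInstance⟩
  haveI : X'.IsSeparated := ⟨by rw [← terminal.comp_from f']; exact inferInstance⟩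
  haveI : IsLocallyNoetherian X := LocallyOfFiniteType.isLocallyNoetherian f
  haveI : IsLocallyNoetherian X' := LocallyOfFiniteType.isLocallyNoetherian f'
  obtain ⟨x₀, hx₀⟩ := hU
  obtain ⟨_, ⟨(U₀ : X.Opens), hU₀, rfl⟩, hx₀U, hU₀U⟩ :=
    X.isBasis_affineOpens.exists_subset_of_mem_open hx₀ U.isOpen
  replace hU₀ : IsAffineOpen U₀ := hU₀
  replace hU₀U : U₀ ≤ U := hU₀U
  haveI : IsAffine (U₀ : Scheme.{u}) := hU₀
  let j := X.homOfLE hU₀U ≫ e.hom ≫ U'.ι
  haveI : IsOpenImmersion j := inferInstanceAs (IsOpenImmersion (X.homOfLE hU₀U ≫ e.hom ≫ U'.ι))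
  have hV₀ : IsAffineOpen j.opensRange := isAffineOpen_opensRange j
  let l := j.isoOpensRange.hom
  let m := j.isoOpensRange.inv
  have hl : l ≫ j.opensRange.ι ≫ f' = U₀.ι ≫ f := by
    rw [Scheme.Hom.isoOpensRange_hom_ι_assoc]
    show (X.homOfLE hU₀U ≫ e.hom ≫ U'.ι) ≫ f' = _
    rw [Category.assoc, Category.assoc, he, Scheme.homOfLE_ι_assoc]
  have hm : m ≫ U₀.ι ≫ f = j.opensRange.ι ≫ f' := by
    rw [← hl]
    exact j.isoOpensRange.inv_hom_id_assoc _
  have hη : genericPoint X ∈ U₀ := (genericPoint_specializes x₀).mem_open U₀.2 hx₀U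
  have hη' : genericPoint X' ∈ j.opensRange :=
    (genericPoint_specializes (j ⟨x₀, hx₀U⟩)).mem_open j.opensRange.2 ⟨_, rfl⟩
  obtain ⟨ψ, hψ⟩ := hn U₀ j.opensRange hU₀ hV₀ (sec l) (sec_const f f' l hl)
  obtain ⟨χ, hχ⟩ := hn' j.opensRange U₀ hV₀ hU₀ (sec m) (sec_const f' f m hm)
  have hψχ : ∀ y, ψ (χ y) = y := by
    have h := hψ.comp hχ
    rw [← sec_comp, show l ≫ m = 𝟙 _ from j.isoOpensRange.hom_inv_id, sec_id] at h
    exact h.unique hU₀ (isPb_id F U₀)
  have hχψ : ∀ y, χ (ψ y) = y := by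
    have h := hχ.comp hψ
    rw [← sec_comp, show m ≫ l = 𝟙 _ from j.isoOpensRange.inv_hom_id, sec_id] at h
    exact h.unique hV₀ (isPb_id F' _)
  have hN := RefX.normal_of_regular hreg
  have hN' := RefX.normal_of_regular hreg'
  choose Φ hΦ using exists_global f f' hN hn hU₀ hV₀ hη l hl hψ
  choose Φ' hΦ' using exists_global f' f hN' hn' hV₀ hU₀ hη' m hm hχ
  have inj := res_injective F hη
  have inj' := res_injective F' hη'
  let E : Γ(F'.L, ⊤) ≃+ Γ(F.L, ⊤) :=
    { toFun := Φ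
      invFun := Φ'
      left_inv := fun s => inj' (by rw [hΦ', hΦ, hχψ])
      right_inv := fun s => inj (by rw [hΦ, hΦ', hψχ])
      map_add' := fun s t => inj (by rw [hΦ, map_add, map_add, map_add, hΦ, hΦ]) }
  have hE : ∀ (c : k) s, E (cst X' ⊤ c • s) = cst X ⊤ c • E s := fun c s => inj (by
    show F.L.presheaf.map _ (Φ _) = F.L.presheaf.map _ (_ • Φ s)
    rw [hΦ, Scheme.Modules.map_smul, Scheme.Modules.map_smul, hψ.1, hΦ]
    congr 1
    have hres : ∀ {Y : Scheme.{u}} [Y.Over (Spec (CommRingCat.of k))] (O : Y.Opens) (c : k),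
        Y.presheaf.map (homOfLE (le_top : O ≤ ⊤)).op (cst Y ⊤ c) = cst Y O c := fun O c =>
      ConcreteCategory.congr_hom (Scheme.Hom.appLE_map _ le_top (homOfLE (le_top : O ≤ ⊤)).op) _
    rw [hres, hres]
    exact sec_const f f' l hl _)
  obtain ⟨a, ha⟩ := exists_equiv_HH (k := k) F.L
  obtain ⟨b, hb⟩ := exists_equiv_HH (k := k) F'.L
  let T := (b.trans E).trans a.symm
  let L : Coh.HH X' F'.L 0 ≃ₗ[k] Coh.HH X F.L 0 :=
    { T with
      map_smul' := fun c x => a.injective (by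
        show a (a.symm (E (b (c • x)))) = a (c • a.symm (E (b x)))
        rw [AddEquiv.apply_symm_apply, ha, AddEquiv.apply_symm_apply, hb, hE]) }
  exact L.finrank_eq.symm

variable [IsAlgClosed k]

theorem isFinLocFree_omega (n : ℕ) (hn : topologicalKrullDim X = n)
    (hreg : ∀ x : X, IsRegularLocalRing (X.presheaf.stalk x)) :
    FlatMod.IsFinLocFree (Omega.sheaf (X ↘ Spec (CommRingCat.of k))) := by
  have h := (S12422.result k n X hn _ _ (OmegaUniv.isUniversal_dOmega (X ↘ Spec (CommRingCat.of k)))).2 hreg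
  intro x
  obtain ⟨U, hx, hU⟩ := h x
  exact ⟨U, n, hx, hU⟩

variable (hreg : ∀ x : X, IsRegularLocalRing (X.presheaf.stalk x))
  (hreg' : ∀ x : X', IsRegularLocalRing (X'.presheaf.stalk x)) {n : ℕ} (hn : topologicalKrullDim X = n)
  (hn' : topologicalKrullDim X' = n) {U : X.Opens} {U' : X'.Opens} (hU : (U : Set X).Nonempty)
  (e : (U : Scheme.{u}) ≅ (U' : Scheme.{u}))
  (he : e.hom ≫ U'.ι ≫ (X' ↘ Spec (CommRingCat.of k)) = U.ι ≫ (X ↘ Spec (CommRingCat.of k))) {q : ℕ}
  {L : X.Modules} (hL : ExtPow.IsExtPow q (Omega.sheaf (X ↘ Spec (CommRingCat.of k))) L)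
  {L' : X'.Modules} (hL' : ExtPow.IsExtPow q (Omega.sheaf (X' ↘ Spec (CommRingCat.of k))) L')

include hreg hreg' hn hn' hU e he hL hL'

theorem finrank_extPow_eq :
    Module.finrank k (Coh.HH X L 0) = Module.finrank k (Coh.HH X' L' 0) := by
  obtain ⟨F, rfl, μ, hb, hF⟩ := exists_extSys _ q (isFinLocFree_omega n hn hreg) hL
  obtain ⟨F', rfl, μ', hb', hF'⟩ := exists_extSys _ q (isFinLocFree_omega n hn' hreg') hL'
  exact finrank_eq_of_nat hreg hreg' U U' hU e he F F' (nat_ext μ hF μ' hb' hF') (nat_ext μ' hF' μ hb hF)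

theorem finrank_tensorPow_extPow_eq (m : ℕ) :
    Module.finrank k (Coh.HH X (CohB1.tensorPow L m) 0) =
      Module.finrank k (Coh.HH X' (CohB1.tensorPow L' m) 0) := by
  obtain ⟨F, rfl, μ, hb, hF⟩ := exists_extSys _ q (isFinLocFree_omega n hn hreg) hL
  obtain ⟨F', rfl, μ', hb', hF'⟩ := exists_extSys _ q (isFinLocFree_omega n hn' hreg') hL'
  rw [← powSys_L, ← powSys_L]
  exact finrank_eq_of_nat hreg hreg' U U' hU e he _ _ (nat_pow (nat_ext μ hF μ' hb' hF') m)
    (nat_pow (nat_ext μ' hF' μ hb hF) m)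

end Groth.Agent.BirForms
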