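import Groth.Agent.BirForms.Hom
import Groth.Agent.SymOmega.Sections
import Groth.Agent.OmegaUniv.Universal
import Groth.Agent.H28.ExtSh
import Groth.Agent.QCoh.TensorSections
import Groth.Agent.Synt29.PnEuler

/-!
# Systems of generated sheaves of forms and their maps along ring maps over the base
-/

set_option autoImplicit false
set_option backward.isDefEq.respectTransparency false
set_option backward.isDefEq.respectTransparency.types false
set_option linter.style.haveILetI false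
set_option maxHeartbeats 1000000

universe u

open CategoryTheory AlgebraicGeometry TopologicalSpace Opposite
open scoped TensorProduct

namespace Groth.Agent.BirForms

open Groth.Agent

variable {X X' S : Scheme.{u}}

/-- A sheaf with natural generators indexed by families of functions. -/
structure Sys (X : Scheme.{u}) (ι : Type) where
  L : X.Modules
  gen : ∀ U : X.Opens, (ι → Γ(X, U)) → Γ(L, U)
  res_gen : ∀ {U V : X.Opens} (h : V ≤ U) (b : ι → Γ(X, U)),
    L.presheaf.map (homOfLE h).op (gen U b) = gen V fun i => X.presheaf.map (homOfLE h).op (b i)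
  span : ∀ U : X.Opens, IsAffineOpen U → Submodule.span Γ(X, U) (Set.range (gen U)) = ⊤
  loc : FlatMod.IsFinLocFree L

variable {ι κ : Type}

/-- A semilinear map respecting generators. -/
def IsPb (F' : Sys X' ι) (F : Sys X ι) {U : X.Opens} {V : X'.Opens} (σ : Γ(X', V) →+* Γ(X, U))
    (ψ : Γ(F'.L, V) →+ Γ(F.L, U)) : Prop :=
  (∀ r m, ψ (r • m) = σ r • ψ m) ∧ ∀ b, ψ (F'.gen V b) = F.gen U fun i => σ (b i)

theorem lf_of_iso {M N : X.Modules} (e : M ≅ N) (h : FlatMod.IsFinLocFree M) : FlatMod.IsFinLocFree N :=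
  fun x => let ⟨U, n, hx, ⟨i⟩⟩ := h x
    ⟨U, n, hx, ⟨((Scheme.Modules.restrictFunctor U.ι).mapIso e).symm ≪≫ i⟩⟩

/-- Maps exist along all ring maps over the base. -/
def Nat (f : X ⟶ S) (f' : X' ⟶ S) (F' : Sys X' ι) (F : Sys X ι) : Prop :=
  ∀ (U : X.Opens) (V : X'.Opens), IsAffineOpen U → IsAffineOpen V → ∀ σ : Γ(X', V) →+* Γ(X, U),
    (∀ c, σ (f'.appLE ⊤ V le_top c) = f.appLE ⊤ U le_top c) → ∃ ψ, IsPb F' F σ ψ

theorem IsPb.unique {F' : Sys X' ι} {F : Sys X ι} {U : X.Opens} {V : X'.Opens} (hV : IsAffineOpen V)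
    {σ : Γ(X', V) →+* Γ(X, U)} {ψ ψ' : Γ(F'.L, V) →+ Γ(F.L, U)} (h : IsPb F' F σ ψ)
    (h' : IsPb F' F σ ψ') (m : Γ(F'.L, V)) : ψ m = ψ' m := by
  have hm : m ∈ Submodule.span Γ(X', V) (Set.range (F'.gen V)) := by rw [F'.span V hV]; trivial
  induction hm using Submodule.span_induction with
  | mem x hx => obtain ⟨b, rfl⟩ := hx; rw [h.2, h'.2]
  | zero => rw [map_zero, map_zero]
  | add x y _ _ ex ey => rw [map_add, map_add, ex, ey]
  | smul r x _ ex => rw [h.1, h'.1, ex]

/-- Restrictions respect generators. -/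
theorem isPb_res (F : Sys X ι) {U V : X.Opens} (h : V ≤ U) :
    IsPb F F (X.presheaf.map (homOfLE h).op).hom (F.L.presheaf.map (homOfLE h).op).hom :=
  ⟨fun r m => Scheme.Modules.map_smul F.L _ r m, F.res_gen h⟩

theorem IsPb.comp {X'' : Scheme.{u}} {F'' : Sys X'' ι} {F' : Sys X' ι} {F : Sys X ι} {U : X.Opens}
    {V : X'.Opens} {W : X''.Opens} {σ : Γ(X', V) →+* Γ(X, U)} {τ : Γ(X'', W) →+* Γ(X', V)}
    {ψ : Γ(F'.L, V) →+ Γ(F.L, U)} {χ : Γ(F''.L, W) →+ Γ(F'.L, V)} (h : IsPb F' F σ ψ)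
    (h' : IsPb F'' F' τ χ) : IsPb F'' F (σ.comp τ) (ψ.comp χ) :=
  ⟨fun r m => (congrArg ψ (h'.1 r m)).trans (h.1 _ _), fun b => (congrArg ψ (h'.2 b)).trans (h.2 _)⟩

theorem isPb_id (F : Sys X ι) (U : X.Opens) : IsPb F F (RingHom.id Γ(X, U)) (AddMonoidHom.id _) :=
  ⟨fun _ _ => rfl, fun _ => rfl⟩

/-! ### The structure sheaf and tensor products -/

/-- The structure sheaf. -/
noncomputable def unitSys (X : Scheme.{u}) : Sys X Empty where
  L := Coh.structureModule X
  gen U _ := (1 : Γ(X, U))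
  res_gen {U V} h b := map_one (X.presheaf.map (homOfLE h).op).hom
  span U _ := eq_top_iff.2 fun (m : Γ(X, U)) _ => by
    have h : m • (show Γ(Coh.structureModule X, U) from (1 : Γ(X, U))) ∈
        Submodule.span Γ(X, U) (Set.range fun _ : Empty → Γ(X, U) =>
          (show Γ(Coh.structureModule X, U) from (1 : Γ(X, U)))) :=
      Submodule.smul_mem _ _ (Submodule.subset_span ⟨Empty.elim, rfl⟩)
    have e : m • (show Γ(Coh.structureModule X, U) from (1 : Γ(X, U))) = m := mul_one m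
    rwa [e] at h
  loc _ := ⟨⊤, 1, trivial, ⟨KFlatLib.restrictStructureIso _ ≪≫
    (Limits.coproductUniqueIso fun _ : Fin 1 => Coh.structureModule _).symm⟩⟩

theorem nat_unit (f : X ⟶ S) (f' : X' ⟶ S) : Nat f f' (unitSys X') (unitSys X) :=
  fun _ _ _ _ σ _ => ⟨σ.toAddMonoidHom, fun r m => σ.map_mul r m, fun _ => σ.map_one⟩

/-- The tensor product of two systems. -/
noncomputable def tensorSys (F : Sys X ι) (G : Sys X κ) : Sys X (ι ⊕ κ) where
  L := CohB1.tensorMod F.L G.L
  gen U b := QCoh.tmS F.L G.L (F.gen U (b ∘ Sum.inl)) (G.gen U (b ∘ Sum.inr))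
  res_gen {U V} h b := by
    refine (QCoh.map_tmS F.L G.L (homOfLE h) _ _).trans ?_
    erw [F.res_gen h, G.res_gen h]
    rfl
  span U hU := by
    have hb := QCoh.bijective_tmLin (QCoh.isQCoh_of_isFinLocFree F.loc)
      (QCoh.isQCoh_of_isFinLocFree G.loc) hU
    refine eq_top_iff.2 fun m hm => ?_
    clear hm
    obtain ⟨z, rfl⟩ := hb.2 m
    induction z using TensorProduct.induction_on with
    | zero => rw [map_zero]; exact Submodule.zero_mem _
    | add x y hx hy => rw [map_add]; exact Submodule.add_mem _ hx hy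
    | tmul s t =>
      have hs : s ∈ Submodule.span Γ(X, U) (Set.range (F.gen U)) := by rw [F.span U hU]; trivial
      have ht : t ∈ Submodule.span Γ(X, U) (Set.range (G.gen U)) := by rw [G.span U hU]; trivial
      induction hs using Submodule.span_induction with
      | mem x hx =>
        obtain ⟨a, rfl⟩ := hx
        induction ht using Submodule.span_induction with
        | mem y hy =>
          obtain ⟨c, rfl⟩ := hy
          exact Submodule.subset_span ⟨Sum.elim a c, rfl⟩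
        | zero => rw [TensorProduct.tmul_zero, map_zero]; exact Submodule.zero_mem _
        | add y y' _ _ ey ey' =>
          rw [TensorProduct.tmul_add, map_add]; exact Submodule.add_mem _ ey ey'
        | smul r y _ ey =>
          rw [TensorProduct.tmul_smul, map_smul]; exact Submodule.smul_mem _ _ ey
      | zero => rw [TensorProduct.zero_tmul, map_zero]; exact Submodule.zero_mem _
      | add x x' _ _ ex ex' => rw [TensorProduct.add_tmul, map_add]; exact Submodule.add_mem _ ex ex'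
      | smul r x _ ex =>
        rw [← TensorProduct.smul_tmul', map_smul]; exact Submodule.smul_mem _ _ ex
  loc := Synt29.PnEuler.isFinLocFree_tensorMod F.loc G.loc

theorem nat_tensor {f : X ⟶ S} {f' : X' ⟶ S} {F : Sys X ι} {F' : Sys X' ι} {G : Sys X κ} {G' : Sys X' κ}
    (hF : Nat f f' F' F) (hG : Nat f f' G' G) : Nat f f' (tensorSys F' G') (tensorSys F G) := by
  intro U V hU hV σ hσ
  obtain ⟨ψ, hψ, hψg⟩ := hF U V hU hV σ hσ
  obtain ⟨χ, hχ, hχg⟩ := hG U V hU hV σ hσ
  let e := LinearEquiv.ofBijective (QCoh.tmLin F'.L G'.L V)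
    (QCoh.bijective_tmLin (QCoh.isQCoh_of_isFinLocFree F'.loc) (QCoh.isQCoh_of_isFinLocFree G'.loc) hV)
  letI : Module Γ(X', V) Γ((DCoh.tensorBi.obj F.L).obj G.L, U) := Module.compHom _ σ
  let b : Γ(F'.L, V) →ₗ[Γ(X', V)] Γ(G'.L, V) →ₗ[Γ(X', V)] Γ((DCoh.tensorBi.obj F.L).obj G.L, U) :=
    LinearMap.mk₂ _ (fun s t => QCoh.tmS F.L G.L (ψ s) (χ t))
      (fun s s' t => (congrArg (QCoh.tmS F.L G.L · (χ t)) (map_add ψ s s')).trans
        (QCoh.tmS_add_left _ _ _ _ _))
      (fun r s t => (congrArg (QCoh.tmS F.L G.L · (χ t)) (hψ r s)).trans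
        (QCoh.tmS_smul_left _ _ _ _ _))
      (fun s t t' => (congrArg (QCoh.tmS F.L G.L (ψ s)) (map_add χ t t')).trans
        (QCoh.tmS_add_right _ _ _ _ _))
      (fun r s t => (congrArg (QCoh.tmS F.L G.L (ψ s)) (hχ r t)).trans
        (QCoh.tmS_smul_right _ _ _ _ _))
  let Φ := (TensorProduct.lift b).comp e.symm.toLinearMap
  refine ⟨Φ.toAddMonoidHom, fun r m => Φ.map_smul r m, fun a => ?_⟩
  have h1 : e.symm ((tensorSys F' G').gen V a) =
      F'.gen V (a ∘ Sum.inl) ⊗ₜ[Γ(X', V)] G'.gen V (a ∘ Sum.inr) := e.symm_apply_eq.2 rfl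
  refine (congrArg (TensorProduct.lift b) h1).trans ?_
  show QCoh.tmS F.L G.L (ψ _) (χ _) = _
  rw [hψg, hχg]
  rfl

/-- The index of a tensor power. -/
def PowIdx (ι : Type) : ℕ → Type
  | 0 => Empty
  | m + 1 => PowIdx ι m ⊕ ι

/-- Tensor powers. -/
noncomputable def powSys (F : Sys X ι) : (m : ℕ) → Sys X (PowIdx ι m)
  | 0 => unitSys X
  | m + 1 => tensorSys (powSys F m) F

theorem powSys_L (F : Sys X ι) : ∀ m, (powSys F m).L = CohB1.tensorPow F.L m
  | 0 => rfl
  | m + 1 => congrArg (fun M => CohB1.tensorMod M F.L) (powSys_L F m)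

theorem nat_pow {f : X ⟶ S} {f' : X' ⟶ S} {F : Sys X ι} {F' : Sys X' ι} (hF : Nat f f' F' F) :
    ∀ m, Nat f f' (powSys F' m) (powSys F m)
  | 0 => nat_unit f f'
  | m + 1 => nat_tensor (nat_pow hF m) hF

/-! ### Forms -/

/-- A semilinear map of differentials along a ring map over the base. -/
theorem exists_omegaMap (f : X ⟶ S) (f' : X' ⟶ S) [QuasiSeparated f] [QuasiSeparated f'] [IsAffine S]
    {U : X.Opens} {V : X'.Opens} (hU : IsAffineOpen U) (hV : IsAffineOpen V)
    (σ : Γ(X', V) →+* Γ(X, U)) (hσ : ∀ c, σ (f'.appLE ⊤ V le_top c) = f.appLE ⊤ U le_top c) :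
    ∃ ψ : Γ(Omega.sheaf f', V) →+ Γ(Omega.sheaf f, U), (∀ r m, ψ (r • m) = σ r • ψ m) ∧
      ∀ b, ψ ((OmegaSh.dOmega f').app V b) = (OmegaSh.dOmega f).app U (σ b) := by
  let _ := (f.appLE ⊤ U le_top).hom.toAlgebra
  let _ := (f'.appLE ⊤ V le_top).hom.toAlgebra
  let _ := σ.toAlgebra
  have : IsScalarTower Γ(S, ⊤) Γ(X', V) Γ(X, U) :=
    IsScalarTower.of_algebraMap_eq fun c => (hσ c).symm
  obtain ⟨l, hl⟩ := SymOmega.exists_linearEquiv_D (OmegaUniv.isUniversal_dOmega f) hU
    (isAffineOpen_top S) le_top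
  obtain ⟨l', hl'⟩ := SymOmega.exists_linearEquiv_D (OmegaUniv.isUniversal_dOmega f') hV
    (isAffineOpen_top S) le_top
  let M := KaehlerDifferential.map Γ(S, ⊤) Γ(S, ⊤) Γ(X', V) Γ(X, U)
  refine ⟨l.symm.toAddMonoidHom.comp (M.toAddMonoidHom.comp l'.toAddMonoidHom), fun r m => ?_, fun b => ?_⟩
  · show l.symm (M (l' (r • m))) = σ r • l.symm (M (l' m))
    rw [map_smul, map_smul, ← algebraMap_smul Γ(X, U) r (M (l' m)), map_smul]
    rfl
  · show l.symm (M (l' _)) = _
    rw [hl', KaehlerDifferential.map_D, LinearEquiv.symm_apply_eq, hl]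
    rfl

theorem span_dOmega (f : X ⟶ S) [QuasiSeparated f] [IsAffine S] {U : X.Opens} (hU : IsAffineOpen U) :
    Submodule.span Γ(X, U) (Set.range ((OmegaSh.dOmega f).app U)) = ⊤ := by
  let _ := (f.appLE ⊤ U le_top).hom.toAlgebra
  obtain ⟨l, hl⟩ := SymOmega.exists_linearEquiv_D (OmegaUniv.isUniversal_dOmega f) hU
    (isAffineOpen_top S) le_top
  have h : l '' Set.range ((OmegaSh.dOmega f).app U) =
      Set.range (KaehlerDifferential.D Γ(S, ⊤) Γ(X, U)) := by
    rw [← Set.range_comp]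
    exact congrArg Set.range (funext hl)
  refine (Submodule.map_eq_top_iff (e := l) (p := _)).1 ?_
  erw [Submodule.map_span, h]
  exact KaehlerDifferential.span_range_derivation _ _

variable (f : X ⟶ S) [QuasiSeparated f] [IsAffine S] (q : ℕ)

/-- The system of a `q`-th exterior power of the differentials. -/
theorem exists_extSys (hΩ : FlatMod.IsFinLocFree (Omega.sheaf f)) {L : X.Modules}
    (hL : ExtPow.IsExtPow q (Omega.sheaf f) L) :
    ∃ F : Sys X (Fin q), F.L = L ∧ ∃ μ : ∀ V : X.Opens,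
        Γ(Omega.sheaf f, V) [⋀^Fin q]→ₗ[Γ(X, V)] Γ(F.L, V),
      (∀ V : X.Opens, IsAffineOpen V → Function.Bijective (AltGlue.lift μ V)) ∧
      ∀ V b, F.gen V b = μ V fun i => (OmegaSh.dOmega f).app V (b i) := by
  obtain ⟨μ, hμ, hb⟩ := H28.ExtSh.exists_mu hL
  obtain ⟨e⟩ := H28.ExtSh.nonempty_iso_L hΩ hL
  refine ⟨⟨L, fun V b => μ V fun i => (OmegaSh.dOmega f).app V (b i), ?_, ?_, ?_⟩, rfl, μ, hb, fun _ _ => rfl⟩
  · intro U V h b
    refine (hμ U V h _).trans (congrArg (μ V) (funext fun i => ?_))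
    exact (Synt29.OmegaStalk.app_res _ (OmegaSh.dOmega f) (homOfLE h) (b i)).symm
  · intro U hU
    have h1 := exteriorPower.ιMulti_span_of_span Γ(X, U) q _ (span_dOmega f hU)
    refine eq_top_iff.2 fun m hm => ?_
    clear hm
    obtain ⟨z, rfl⟩ := (hb U hU).2 m
    have hz : z ∈ Submodule.map (LinearMap.id) (⊤ : Submodule Γ(X, U) _) := ⟨z, trivial, rfl⟩
    rw [Submodule.map_id, ← h1] at hz
    induction hz using Submodule.span_induction with
    | mem x hx =>
      obtain ⟨a, ha, rfl⟩ := hx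
      choose b hb' using fun i => ha ⟨i, rfl⟩
      erw [AltGlue.lift_ιMulti]
      exact Submodule.subset_span ⟨b, congrArg (μ U) (funext hb')⟩
    | zero => rw [map_zero]; exact Submodule.zero_mem _
    | add x y _ _ ex ey => rw [map_add]; exact Submodule.add_mem _ ex ey
    | smul r x _ ex => rw [map_smul]; exact Submodule.smul_mem _ _ ex
  · exact lf_of_iso e (H28.ExtSh.isFinLocFree_L q hΩ)

variable {q} {f}

theorem nat_ext {f' : X' ⟶ S} [QuasiSeparated f'] {F : Sys X (Fin q)} {F' : Sys X' (Fin q)}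
    (μ : ∀ V : X.Opens, Γ(Omega.sheaf f, V) [⋀^Fin q]→ₗ[Γ(X, V)] Γ(F.L, V))
    (hF : ∀ V b, F.gen V b = μ V fun i => (OmegaSh.dOmega f).app V (b i))
    (μ' : ∀ V : X'.Opens, Γ(Omega.sheaf f', V) [⋀^Fin q]→ₗ[Γ(X', V)] Γ(F'.L, V))
    (hb' : ∀ V : X'.Opens, IsAffineOpen V → Function.Bijective (AltGlue.lift μ' V))
    (hF' : ∀ V b, F'.gen V b = μ' V fun i => (OmegaSh.dOmega f').app V (b i)) :
    Nat f f' F' F := by
  intro U V hU hV σ hσ
  obtain ⟨ψ, hψ, hψd⟩ := exists_omegaMap f f' hU hV σ hσ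
  letI : Module Γ(X', V) Γ(F.L, U) := Module.compHom _ σ
  let a : Γ(Omega.sheaf f', V) [⋀^Fin q]→ₗ[Γ(X', V)] Γ(F.L, U) :=
    { toFun := fun e => μ U (ψ ∘ e)
      map_update_add' := fun e i x y => by
        show μ U (ψ ∘ _) = μ U (ψ ∘ _) + μ U (ψ ∘ _)
        rw [Function.comp_update, Function.comp_update, Function.comp_update, map_add]
        exact (μ U).map_update_add _ _ _ _
      map_update_smul' := fun e i c x => by
        show μ U (ψ ∘ _) = σ c • μ U (ψ ∘ _)
        rw [Function.comp_update, Function.comp_update, hψ]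
        exact (μ U).map_update_smul _ _ _ _
      map_eq_zero_of_eq' := fun e i j he hij => (μ U).map_eq_zero_of_eq _ (congrArg ψ he) hij }
  let e := LinearEquiv.ofBijective (AltGlue.lift μ' V) (hb' V hV)
  let Φ := (exteriorPower.alternatingMapLinearEquiv a).comp e.symm.toLinearMap
  refine ⟨Φ.toAddMonoidHom, fun r m => Φ.map_smul r m, fun b => ?_⟩
  have h1 : e.symm (F'.gen V b) = exteriorPower.ιMulti Γ(X', V) q
      (fun i => (OmegaSh.dOmega f').app V (b i)) :=
    e.symm_apply_eq.2 ((hF' V b).trans (AltGlue.lift_ιMulti μ' V _).symm)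
  refine (congrArg (exteriorPower.alternatingMapLinearEquiv a) h1).trans ?_
  rw [exteriorPower.alternatingMapLinearEquiv_apply_ιMulti]
  show μ U _ = _
  rw [hF]
  exact congrArg (μ U) (funext fun i => hψd (b i))

end Groth.Agent.BirForms
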